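import Groth.Prelude.Def_EtAcyc
import Groth.Agent.EtFound.PushOutside
import Groth.Agent.EtFound.StalkSet
import Groth.Agent.FDescent.QuasiFlat
import Mathlib.CategoryTheory.Adjunction.FullyFaithful
import Mathlib.CategoryTheory.Sites.Point.Skyscraper

/-!
# (-1)-acyclic morphisms are the surjective ones
-/

universe u

open CategoryTheory CategoryTheory.Limits AlgebraicGeometry Opposite

namespace MinusOne

set_option backward.isDefEq.respectTransparency false
set_option backward.isDefEq.respectTransparency.types false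

variable {X Y : Scheme.{u}} (g : X ⟶ Y)

theorem minusOne_of_surjective (h : Function.Surjective g.base) : EtAcyc.IsMinusOneAcyclic g := by
  intro V F
  haveI : Surjective g := ⟨h⟩
  haveI : Surjective (EtAcyc.prj g V) := inferInstanceAs (Surjective (pullback.fst V.hom g))
  haveI : (EtDesc.pullSh (EtAcyc.prj g V)).Faithful :=
    Groth.Agent.EtFound.pullback_faithful (A := Type (u + 1)) (EtAcyc.prj g V)
  exact (EtDesc.adjSh (EtAcyc.prj g V)).unit_mono_of_L_faithful F

variable {g}

theorem exists_open_avoiding [QuasiCompact g] {y : Y} (hy : y ∉ Set.range g.base) :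
    ∃ V : Y.Opens, y ∈ V ∧ ∀ x : X, g.base x ∈ V → ¬ y ⤳ g.base x := by
  let C : TopologicalSpace.Closeds X :=
    ⟨g.base ⁻¹' closure {y}, isClosed_closure.preimage g.continuous⟩
  let Z := (Scheme.IdealSheafData.vanishingIdeal C).subscheme
  let h : Z ⟶ Y := (Scheme.IdealSheafData.vanishingIdeal C).subschemeι ≫ g
  have hr : Set.range h.base = g.base '' (C : Set X) := by
    ext z
    have e := (Scheme.IdealSheafData.vanishingIdeal C).range_subschemeι
    rw [Scheme.IdealSheafData.coe_support_vanishingIdeal] at e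
    constructor
    · rintro ⟨w, rfl⟩
      refine ⟨_, ?_, (Scheme.Hom.comp_apply _ _ w).symm⟩
      rw [← e]; exact ⟨w, rfl⟩
    · rintro ⟨x, hx, rfl⟩
      rw [← e] at hx
      obtain ⟨w, rfl⟩ := hx
      exact ⟨w, Scheme.Hom.comp_apply _ _ w⟩
  refine ⟨⟨(closure (Set.range h.base))ᶜ, isClosed_closure.isOpen_compl⟩, ?_, fun x hx hsp => ?_⟩
  · intro hc
    obtain ⟨w, hw⟩ := Groth.Agent.FDescent.exists_specializes_of_mem_closure_range h hc
    obtain ⟨x, hxC, hxw⟩ : h.base w ∈ g.base '' (C : Set X) := hr ▸ ⟨w, rfl⟩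
    refine hy ⟨x, (hxw.trans ((hw.antisymm ?_).eq))⟩
    rw [← hxw]
    exact specializes_iff_mem_closure.2 hxC
  · exact hx (subset_closure (by rw [hr]; exact ⟨x, specializes_iff_mem_closure.1 hsp, rfl⟩))

/-- two-valued skyscraper -/
noncomputable abbrev sky {V : Scheme.{u}} {Ω : Type u} [Field Ω] [IsSepClosed Ω]
    (ξ : Spec (CommRingCat.of Ω) ⟶ V) : EtDesc.Sh V :=
  (Scheme.pointSmallEtale ξ).skyscraperSheafFunctor.obj (ULift.{u + 1} Bool)

theorem surjective_of_minusOne [QuasiCompact g] (h : EtAcyc.IsMinusOneAcyclic g) :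
    Function.Surjective g.base := by
  intro y
  by_contra hy
  obtain ⟨O, hyO, hO⟩ := exists_open_avoiding (g := g) (y := y) (fun hh => hy hh)
  let V : Y.Etale := Scheme.Etale.mk O.ι
  obtain ⟨Ω, _, _, ξ, hξ⟩ := Groth.Agent.EtFound.exists_geomPoint (X := (O : Scheme)) ⟨y, hyO⟩
  let F := sky (V := V.left) ξ
  let G : EtDesc.Sh V.left := F
  let p := EtAcyc.prj g V
  haveI : ∀ F, Mono ((EtDesc.adjSh p).unit.app F) := fun F => h V F
  haveI hff : (EtDesc.pullSh p).Faithful := (EtDesc.adjSh p).faithful_L_of_mono_unit_app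
  let e := ((Scheme.pointSmallEtale ξ).skyscraperSheafAdjunction (A := Type (u + 1))).homEquiv G (ULift.{u + 1} Bool)
  let a := e (TypeCat.ofHom fun _ => ⟨true⟩)
  let b := e (TypeCat.ofHom fun _ => ⟨false⟩)
  have hab : a ≠ b := by
    intro hab
    have h1 := e.injective hab
    let t := (Scheme.pointSmallEtale ξ).toPresheafFiber (EtCoh.top V.left)
      (CategoryTheory.Over.homMk ξ (Category.comp_id _)) F.obj
      ((Types.productIso.{u, u + 1} (fun _ : (Scheme.pointSmallEtale ξ).fiber.obj (EtCoh.top V.left) =>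
        ULift.{u + 1} Bool)).inv (fun _ => ⟨true⟩))
    have h2 := congrArg (fun k : (Scheme.pointSmallEtale ξ).sheafFiber.obj G ⟶ ULift.{u + 1} Bool =>
      (k t).down) h1
    exact Bool.noConfusion h2
  apply hab
  apply hff.map_injective
  refine Groth.Agent.EtFound.eq_of_stalks (A := Type (u + 1)) _ _ fun k _ _ ζ => ?_
  let C : Set V.left := closure {(⟨y, hyO⟩ : (O : Scheme))}
  have hC : (ζ ≫ p).base (default : Spec (CommRingCat.of k)) ∉ C := by
    intro hc
    rw [Scheme.Hom.comp_apply] at hc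
    set z := ζ.base (default : Spec (CommRingCat.of k))
    have hs : y ⤳ O.ι.base (p.base z) := by
      have := (specializes_iff_mem_closure.2 hc).map O.ι.continuous
      exact this
    have hq : O.ι.base (p.base z) = g.base ((pullback.snd V.hom g).base z) := by
      exact (Scheme.Hom.comp_apply _ _ z).symm.trans
        ((congrArg (fun q : _ ⟶ Y => q.base z) pullback.condition).trans (Scheme.Hom.comp_apply _ _ z))
    refine hO ((pullback.snd V.hom g).base z) ?_ (hq ▸ hs)
    rw [← hq]
    exact (p.base z).2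
  obtain ⟨hu⟩ := Groth.Agent.EtFound.nonempty_unique_stalk (A := Type (u + 1)) (C := C) isClosed_closure F
    (fun U hU => by
      haveI : IsEmpty ((Scheme.pointSmallEtale ξ).fiber.obj U) := ⟨fun w => by
        refine Set.disjoint_left.1 hU ⟨w.left.base (default : Spec (CommRingCat.of Ω)), rfl⟩ ?_
        have e : ((w.left : Spec (CommRingCat.of Ω) ⟶ U.left) ≫ U.hom) = ξ := CategoryTheory.Over.w w
        refine Set.mem_of_eq_of_mem ((Scheme.Hom.comp_apply _ _ _).symm.trans
          ((congrArg (fun q : Spec (CommRingCat.of Ω) ⟶ V.left => q.base default) e).trans hξ)) ?_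
        exact subset_closure rfl⟩
      exact ⟨(Types.productIso.{u, u + 1} (fun _ : (Scheme.pointSmallEtale ξ).fiber.obj U =>
        ULift.{u + 1} Bool)).toEquiv.unique⟩) (ζ ≫ p) hC
  let i := (Groth.Agent.EtFound.sheafFiberPullIso (A := Type (u + 1)) p ζ).app F
  haveI : Subsingleton ((Scheme.pointSmallEtale ζ).sheafFiber.obj ((EtDesc.pullSh p).obj F)) :=
    ⟨fun s t => i.toEquiv.injective (hu.eq_default _ |>.trans (hu.eq_default _).symm)⟩
  exact ConcreteCategory.hom_ext _ _ fun s => Subsingleton.elim _ _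

end MinusOne
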